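import Mathlib
import Cfsg.Prelude.Def_Solvable

set_option autoImplicit false

namespace Cfsg.Agent.S4292L

universe u v

/-- `A` acts fixed-point-freely (by additive automorphisms) on a finite nontrivial abelian group
killed by `ℓ`. -/
def HasFpfMod (A : Type u) [Group A] (ℓ : ℕ) : Prop :=
  ∃ (M : Type v) (_ : AddCommGroup M) (_ : DistribMulAction A M), Finite M ∧ Nontrivial M ∧
    (∀ m : M, ℓ • m = 0) ∧ ∀ a : A, a ≠ 1 → ∀ m : M, a • m = m → m = 0

/-- matrix version over a commutative ring: `ρ a - 1` is invertible for every `a ≠ 1`. -/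
def HasFpfMat (A : Type u) [Group A] (R : Type) [CommRing R] (d : ℕ) : Prop :=
  ∃ ρ : A →* Matrix.GeneralLinearGroup (Fin d) R,
    ∀ a : A, a ≠ 1 → IsUnit ((ρ a : Matrix (Fin d) (Fin d) R) - 1)

/-- `A` is isomorphic to a Frobenius complement of some finite group (in `Type`). -/
def IsFC (A : Type u) [Group A] : Prop :=
  ∃ (L : Type) (_ : Group L) (_ : Finite L) (H : Subgroup L),
    Cfsg.IsFrobeniusComplement H ∧ Nonempty (A ≃* H)

/-- reduction `GL_d(ℤ/q^k) → GL_d(ℤ/q)` -/
noncomputable def red (q d k : ℕ) (hk : k ≠ 0) :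
    Matrix.GeneralLinearGroup (Fin d) (ZMod (q ^ k)) →* Matrix.GeneralLinearGroup (Fin d) (ZMod q) :=
  Matrix.GeneralLinearGroup.map (ZMod.castHom (dvd_pow_self q hk) (ZMod q))

/-- the relation `1 + a + ⋯ + a^(o(a)-1) ∼ 0` for `a ≠ 1` on the integral group ring -/
def relN (A : Type u) [Group A] : MonoidAlgebra ℤ A → MonoidAlgebra ℤ A → Prop :=
  fun x y => ∃ a : A, a ≠ 1 ∧
    x = ∑ i ∈ Finset.range (orderOf a), MonoidAlgebra.of ℤ A (a ^ i) ∧ y = 0

/-- `ℤ[A]` modulo the two-sided ideal generated by the norm elements of the nontrivial cyclic subgroups -/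
abbrev Lam (A : Type u) [Group A] : Type u := RingQuot (relN A)

end Cfsg.Agent.S4292L
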