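import Mathlib
import Cfsg.Agent.Lib.S4292.Defs
import Cfsg.Agent.S0035
import Cfsg.Agent.S0042
import Cfsg.Agent.S0034
import Cfsg.Agent.S0039

set_option autoImplicit false

namespace Cfsg.Agent.S4292L

universe u v

/-- aux: the `q`-torsion of the centre of a subgroup `N`, as a subgroup of the ambient group. -/
def PA1_V {L : Type u} [Group L] (N : Subgroup L) (q : ℕ) : Subgroup L where
  carrier := {v | v ∈ N ∧ (∀ n ∈ N, n * v = v * n) ∧ v ^ q = 1}
  one_mem' := ⟨N.one_mem, fun n _ => by rw [mul_one, one_mul], one_pow q⟩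
  mul_mem' := by
    rintro v w ⟨hvN, hvc, hvq⟩ ⟨hwN, hwc, hwq⟩
    refine ⟨N.mul_mem hvN hwN, fun n hn => ?_, ?_⟩
    · rw [← mul_assoc, hvc n hn, mul_assoc, hwc n hn, ← mul_assoc]
    · have hcomm : Commute v w := (hvc w hwN).symm
      rw [hcomm.mul_pow, hvq, hwq, one_mul]
  inv_mem' := by
    rintro v ⟨hvN, hvc, hvq⟩
    refine ⟨N.inv_mem hvN, fun n hn => ?_, by rw [inv_pow, hvq, inv_one]⟩
    have h := hvc n hn
    calc n * v⁻¹ = v⁻¹ * (v * n) * v⁻¹ := by group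
      _ = v⁻¹ * (n * v) * v⁻¹ := by rw [h]
      _ = v⁻¹ * n := by group

theorem PA1_mem_V {L : Type u} [Group L] (N : Subgroup L) (q : ℕ) (v : L) :
    v ∈ PA1_V N q ↔ v ∈ N ∧ (∀ n ∈ N, n * v = v * n) ∧ v ^ q = 1 := Iff.rfl

theorem PA1_exists_module_subgroup {L : Type u} [Group L] [Finite L] (H : Subgroup L)
    (hH : Cfsg.IsFrobeniusComplement H) :
    ∃ (q : ℕ) (V : Subgroup L), q.Prime ∧ ¬ q ∣ Nat.card H ∧ V ≠ ⊥ ∧
      (∀ v ∈ V, ∀ w ∈ V, v * w = w * v) ∧ (∀ v ∈ V, v ^ q = 1) ∧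
      (∀ h ∈ H, ∀ v ∈ V, h * v * h⁻¹ ∈ V) ∧
      (∀ h ∈ H, h ≠ 1 → ∀ v ∈ V, h * v = v * h → v = 1) := by
  classical
  obtain ⟨N, hNk, hNn, hNc⟩ := Cfsg.Agent.S0035.result H hH
  obtain ⟨N', hNk', -, hNnil'⟩ := Cfsg.Agent.S0042.result H hH
  have hNN' : N' = N := SetLike.coe_injective (hNk'.trans hNk.symm)
  subst hNN'
  haveI := hNn
  obtain ⟨hcard, hmod⟩ := Cfsg.Agent.S0034.result H hH
  -- N ≠ ⊥
  have hNbot : N' ≠ ⊥ := by
    intro hb
    have hsup := hNc.sup_eq_top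
    rw [hb, bot_sup_eq] at hsup
    exact hH.2.1 hsup
  haveI : Nontrivial N' := (Subgroup.nontrivial_iff_ne_bot N').mpr hNbot
  haveI : Group.IsNilpotent N' := hNnil'
  have hZ : Subgroup.center N' ≠ ⊥ := Group.IsNilpotent.center_ne_bot N'
  -- a prime dividing |Z(N)|
  have hZcard : Nat.card (Subgroup.center N') ≠ 1 := by
    intro h1
    exact hZ (Subgroup.card_eq_one.mp h1)
  obtain ⟨q, hq, hqd⟩ := Nat.exists_prime_and_dvd hZcard
  haveI : Fact q.Prime := ⟨hq⟩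
  -- |N| = index, coprime to |H|
  have hcardN : Nat.card N' = H.index := by
    rw [← hcard, ← hNk]
    rfl
  have hqN : q ∣ Nat.card N' := hqd.trans (Subgroup.card_subgroup_dvd_card _)
  have hqH : ¬ q ∣ Nat.card H := by
    intro hd
    have h1 : H.index ≡ 1 [MOD Nat.card H] := hmod
    have h2 : H.index ≡ 1 [MOD q] := h1.of_dvd hd
    rw [← hcardN] at h2
    have h3 : Nat.card N' ≡ 0 [MOD q] := (Nat.modEq_zero_iff_dvd).mpr hqN
    have h4 : (0 : ℕ) ≡ 1 [MOD q] := h3.symm.trans h2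
    have h5 : q ∣ 1 := by
      have := (Nat.modEq_zero_iff_dvd).mp h4.symm
      exact this
    exact hq.one_lt.ne' (Nat.dvd_one.mp h5)
  -- Cauchy in the centre
  obtain ⟨z, hz⟩ := exists_prime_orderOf_dvd_card' q hqd
  refine ⟨q, PA1_V N' q, hq, hqH, ?_, ?_, ?_, ?_, ?_⟩
  · -- nontrivial
    intro hb
    have hzV : ((z : N') : L) ∈ PA1_V N' q := by
      refine ⟨(z : N').2, fun n hn => ?_, ?_⟩
      · have hc := (Subgroup.mem_center_iff.mp z.2) ⟨n, hn⟩
        have := congrArg (fun x : N' => (x : L)) hc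
        simpa using this
      · have hzq : z ^ q = 1 := by rw [← hz]; exact pow_orderOf_eq_one z
        have := congrArg (fun x : Subgroup.center N' => ((x : N') : L)) hzq
        simpa using this
    rw [hb, Subgroup.mem_bot] at hzV
    have hz1 : z = 1 := by
      apply Subtype.ext
      apply Subtype.ext
      simpa using hzV
    rw [hz1, orderOf_one] at hz
    exact hq.one_lt.ne hz
  · rintro v ⟨_, hvc, _⟩ w ⟨hwN, _, _⟩
    exact (hvc w hwN).symm
  · rintro v ⟨_, _, hvq⟩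
    exact hvq
  · rintro h _ v ⟨hvN, hvc, hvq⟩
    refine ⟨hNn.conj_mem v hvN h, fun n hn => ?_, ?_⟩
    · have hn' : h⁻¹ * n * h ∈ N' := by
        have := hNn.conj_mem n hn h⁻¹
        simpa using this
      have h1 := hvc _ hn'
      calc n * (h * v * h⁻¹) = h * ((h⁻¹ * n * h) * v) * h⁻¹ := by group
        _ = h * (v * (h⁻¹ * n * h)) * h⁻¹ := by rw [h1]
        _ = h * v * h⁻¹ * n := by group
    · rw [conj_pow, hvq, mul_one, mul_inv_cancel]
  · rintro h hhH hh1 v ⟨hvN, _, _⟩ hcomm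
    have hfpf := (Cfsg.Agent.S0039.result N' H hNc hNbot hH.1).mp hH h hhH hh1
    have hv : v ∈ N' ⊓ Subgroup.centralizer {h} := by
      refine ⟨hvN, ?_⟩
      show v ∈ Subgroup.centralizer {h}
      rw [Subgroup.mem_centralizer_iff]
      intro x hx
      rw [Set.mem_singleton_iff] at hx
      rw [hx]
      exact hcomm
    rw [hfpf, Subgroup.mem_bot] at hv
    exact hv

end Cfsg.Agent.S4292L
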