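import Mathlib
import Cfsg.Agent.Lib.S4292.Defs
import Cfsg.Agent.Lib.S4292.PA1

set_option autoImplicit false

namespace Cfsg.Agent.S4292L

universe u v

/-- PA -/
theorem PA_exists_fpfMod_of_isFC {A : Type u} [Group A] [Finite A] (h : IsFC A) :
    ∃ q : ℕ, q.Prime ∧ ¬ q ∣ Nat.card A ∧ HasFpfMod.{u, 0} A q := by
  classical
  obtain ⟨L, instL, finL, H, hH, ⟨e⟩⟩ := h
  obtain ⟨q, V, hq, hqH, hVbot, hVcomm, hVq, hVnorm, hVfpf⟩ := PA1_exists_module_subgroup H hH
  refine ⟨q, hq, ?_, ?_⟩
  · rw [Nat.card_congr e.toEquiv]
    exact hqH
  · -- the module `Additive V`
    letI instC : CommGroup V :=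
      { (inferInstance : Group V) with
        mul_comm := fun a b => Subtype.ext (hVcomm a a.2 b b.2) }
    let act : A → V → V := fun a v =>
      ⟨(e a : L) * (v : L) * (e a : L)⁻¹, hVnorm _ (e a).2 _ v.2⟩
    have hact : ∀ a v, ((act a v : V) : L) = (e a : L) * (v : L) * (e a : L)⁻¹ := fun _ _ => rfl
    let instA : DistribMulAction A (Additive V) :=
      { smul := fun a m => Additive.ofMul (act a (Additive.toMul m))
        one_smul := by
          intro m
          show Additive.ofMul (act 1 (Additive.toMul m)) = m
          apply Additive.toMul.injective
          apply Subtype.ext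
          simp [hact]
        mul_smul := by
          intro a b m
          show Additive.ofMul (act (a * b) (Additive.toMul m)) =
            Additive.ofMul (act a (Additive.toMul (Additive.ofMul (act b (Additive.toMul m)))))
          apply Additive.toMul.injective
          apply Subtype.ext
          simp only [toMul_ofMul, hact, map_mul, Subgroup.coe_mul, mul_inv_rev]
          group
        smul_zero := by
          intro a
          show Additive.ofMul (act a (Additive.toMul (0 : Additive V))) = 0
          apply Additive.toMul.injective
          apply Subtype.ext
          simp [hact]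
        smul_add := by
          intro a m n
          show Additive.ofMul (act a (Additive.toMul (m + n))) =
            Additive.ofMul (act a (Additive.toMul m)) + Additive.ofMul (act a (Additive.toMul n))
          apply Additive.toMul.injective
          apply Subtype.ext
          simp only [toMul_add, toMul_ofMul, hact, Subgroup.coe_mul]
          group }
    have hsmul : ∀ (a : A) (m : Additive V),
        a • m = Additive.ofMul (act a (Additive.toMul m)) := fun _ _ => rfl
    refine ⟨Additive V, inferInstance, instA, inferInstance, ?_, ?_, ?_⟩
    · haveI : Nontrivial V := (Subgroup.nontrivial_iff_ne_bot V).mpr hVbot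
      infer_instance
    · intro m
      apply Additive.toMul.injective
      rw [toMul_nsmul, toMul_zero]
      apply Subtype.ext
      rw [Subgroup.coe_pow, Subgroup.coe_one]
      exact hVq _ (Additive.toMul m).2
    · intro a ha m hm
      rw [hsmul] at hm
      have h1 : ((act a (Additive.toMul m) : V) : L) = ((Additive.toMul m : V) : L) := by
        have := congrArg (fun x : Additive V => ((Additive.toMul x : V) : L)) hm
        simpa using this
      rw [hact] at h1
      have hea : (e a : L) ≠ 1 := by
        intro h'
        apply ha
        apply e.injective
        apply Subtype.ext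
        rw [h', map_one, Subgroup.coe_one]
      have hcomm : (e a : L) * ((Additive.toMul m : V) : L) = ((Additive.toMul m : V) : L) * (e a : L) := by
        have := congrArg (fun x : L => x * (e a : L)) h1
        simpa [mul_assoc] using this
      have hv := hVfpf _ (e a).2 hea _ (Additive.toMul m).2 hcomm
      apply Additive.toMul.injective
      apply Subtype.ext
      rw [hv, toMul_zero, Subgroup.coe_one]

end Cfsg.Agent.S4292L
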