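import Mathlib
import Cfsg.Agent.Lib.S4292.Defs

set_option autoImplicit false

namespace Cfsg.Agent.S4292L

universe u v

/-- PB for a module structure given as an instance -/
theorem PB_aux {A : Type u} [Group A] {q : ℕ} [Fact q.Prime] (M : Type v) [AddCommGroup M]
    [Module (ZMod q) M] [DistribMulAction A M] [Finite M] [Nontrivial M]
    (hfpf : ∀ a : A, a ≠ 1 → ∀ m : M, a • m = m → m = 0) :
    ∃ d : ℕ, 0 < d ∧ HasFpfMat A (ZMod q) d := by
  haveI : Module.Finite (ZMod q) M := Module.Finite.of_finite
  have hdpos : 0 < Module.finrank (ZMod q) M := Module.finrank_pos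
  let b : Module.Basis (Fin (Module.finrank (ZMod q) M)) (ZMod q) M := Module.finBasis (ZMod q) M
  -- the action as a monoid hom into the endomorphism ring
  let act : A →* Module.End (ZMod q) M :=
    { toFun := fun a => AddMonoidHom.toZModLinearMap q (DistribSMul.toAddMonoidHom M a)
      map_one' := by
        apply LinearMap.ext
        intro m
        change (1 : A) • m = m
        exact one_smul A m
      map_mul' := by
        intro a a'
        apply LinearMap.ext
        intro m
        change (a * a') • m = a • a' • m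
        exact mul_smul a a' m }
  have hact : ∀ a m, act a m = a • m := fun a m => rfl
  let e : Module.End (ZMod q) M ≃ₐ[ZMod q]
      Matrix (Fin (Module.finrank (ZMod q) M)) (Fin (Module.finrank (ZMod q) M)) (ZMod q) :=
    LinearMap.toMatrixAlgEquiv b
  let ρ0 : A →* Matrix (Fin (Module.finrank (ZMod q) M)) (Fin (Module.finrank (ZMod q) M)) (ZMod q) :=
    (e : Module.End (ZMod q) M →* _).comp act
  refine ⟨Module.finrank (ZMod q) M, hdpos, ρ0.toHomUnits, ?_⟩
  intro a ha
  have h1 : ((ρ0.toHomUnits a : Matrix _ _ (ZMod q))) = e (act a) := rfl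
  rw [h1]
  have h2 : e (act a) - 1 = e (act a - 1) := by
    rw [map_sub, map_one]
  rw [h2]
  have h3 : IsUnit (act a - 1) := by
    rw [LinearMap.isUnit_iff_ker_eq_bot, LinearMap.ker_eq_bot']
    intro m hm
    apply hfpf a ha m
    have h4 : act a m - m = 0 := hm
    rw [hact] at h4
    exact sub_eq_zero.mp h4
  exact h3.map e

/-- PB -/
theorem PB_fpfMat_of_fpfMod {A : Type u} [Group A] {q : ℕ} [Fact q.Prime]
    (h : HasFpfMod.{u, v} A q) : ∃ d : ℕ, 0 < d ∧ HasFpfMat A (ZMod q) d := by
  obtain ⟨M, iM, iA, hfin, hnt, hq, hfpf⟩ := h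
  exact @PB_aux A _ q _ M iM (AddCommGroup.zmodModule hq) iA hfin hnt hfpf

end Cfsg.Agent.S4292L
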