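import Mathlib
import Cfsg.Agent.Lib.S4292.Defs

set_option autoImplicit false

namespace Cfsg.Agent.S4292L

open Polynomial in
/-- the polynomial identity `(1 + qT)^(q^n) = 1` over `ZMod (q^(n+1))` -/
theorem PC1_poly (q n : ℕ) :
    ((1 : (ZMod (q ^ (n + 1)))[X]) + (q : (ZMod (q ^ (n + 1)))[X]) * X) ^ q ^ n = 1 := by
  have h : ((q : ℕ) : (ZMod (q ^ (n + 1)))[X]) ∣
      ((1 : (ZMod (q ^ (n + 1)))[X]) + (q : (ZMod (q ^ (n + 1)))[X]) * X) - 1 := by
    rw [add_sub_cancel_left]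
    exact dvd_mul_right _ _
  have h2 := dvd_sub_pow_of_dvd_sub h n
  have h0 : ((q : (ZMod (q ^ (n + 1)))[X]) ^ (n + 1)) = 0 := by
    rw [← Nat.cast_pow]
    have : ((q ^ (n + 1) : ℕ) : ZMod (q ^ (n + 1))) = 0 := ZMod.natCast_self _
    rw [← map_natCast (C : ZMod (q ^ (n + 1)) →+* (ZMod (q ^ (n + 1)))[X]), this, map_zero]
  rw [h0, zero_dvd_iff, one_pow, sub_eq_zero] at h2
  exact h2

/-- matrix version -/
theorem PC1_matrix (q n d : ℕ) (Y : Matrix (Fin d) (Fin d) (ZMod (q ^ (n + 1)))) :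
    ((1 : Matrix (Fin d) (Fin d) (ZMod (q ^ (n + 1)))) +
      (q : Matrix (Fin d) (Fin d) (ZMod (q ^ (n + 1)))) * Y) ^ q ^ n = 1 := by
  have h := congrArg (Polynomial.aeval Y) (PC1_poly q n)
  simpa using h


/-- an element of `ZMod (q^k)` that dies in `ZMod q` is a multiple of `q` -/
theorem PC1_dvd_of_cast_eq_zero (q : ℕ) [Fact q.Prime] (k : ℕ) (hk : k ≠ 0) (x : ZMod (q ^ k))
    (hx : ZMod.castHom (dvd_pow_self q hk) (ZMod q) x = 0) :
    ∃ c : ZMod (q ^ k), x = (q : ZMod (q ^ k)) * c := by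
  have hq : q.Prime := Fact.out
  have : NeZero (q ^ k) := ⟨pow_ne_zero _ hq.ne_zero⟩
  have h1 : x = ((x.val : ℕ) : ZMod (q ^ k)) := (ZMod.natCast_zmod_val x).symm
  rw [h1, map_natCast, ZMod.natCast_eq_zero_iff] at hx
  obtain ⟨c, hc⟩ := hx
  refine ⟨(c : ZMod (q ^ k)), ?_⟩
  rw [h1, hc]
  push_cast
  rfl

theorem PC1_ker_isPGroup (q : ℕ) [Fact q.Prime] (d k : ℕ) (hk : k ≠ 0) :
    IsPGroup q (red q d k hk).ker := by
  obtain ⟨n, rfl⟩ := Nat.exists_eq_succ_of_ne_zero hk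
  intro g
  refine ⟨n, ?_⟩
  have hg : red q d (n + 1) hk g.1 = 1 := g.2
  have hent : ∀ i j, ∃ c : ZMod (q ^ (n + 1)),
      ((g.1 : Matrix (Fin d) (Fin d) (ZMod (q ^ (n + 1)))) i j) -
        (1 : Matrix (Fin d) (Fin d) (ZMod (q ^ (n + 1)))) i j = (q : ZMod (q ^ (n + 1))) * c := by
    intro i j
    apply PC1_dvd_of_cast_eq_zero q (n + 1) hk
    have h1 := congrArg (fun u : Matrix.GeneralLinearGroup (Fin d) (ZMod q) =>
      (u : Matrix (Fin d) (Fin d) (ZMod q)) i j) hg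
    simp only [red, Matrix.GeneralLinearGroup.map_apply] at h1
    rw [map_sub, h1]
    by_cases hij : i = j
    · subst hij; simp
    · simp [hij]
  choose Y hY using hent
  have hM : (g.1 : Matrix (Fin d) (Fin d) (ZMod (q ^ (n + 1)))) =
      1 + (q : Matrix (Fin d) (Fin d) (ZMod (q ^ (n + 1)))) * Matrix.of Y := by
    ext i j
    have := hY i j
    rw [sub_eq_iff_eq_add] at this
    rw [this, Matrix.add_apply, add_comm]
    congr 1
    rw [← Matrix.diagonal_natCast, Matrix.diagonal_mul]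
    rfl
  apply Subtype.ext
  apply Units.ext
  simp only [Subgroup.coe_pow, Units.val_pow_eq_pow_val, Subgroup.coe_one, Units.val_one]
  rw [hM]
  exact PC1_matrix q n d (Matrix.of Y)

end Cfsg.Agent.S4292L
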