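import Mathlib
import Cfsg.Agent.Lib.S4292.Defs

/-!
# S4292 pieces PC2 + PC2b (helper9): units lift along `ℤ/q^k → ℤ/q`; `red` is surjective
-/

set_option autoImplicit false

namespace Cfsg.Agent.S4292L

/-- an element of `ℤ/q^k` whose reduction mod `q` is a unit is a unit -/
theorem PC2_isUnit_of_castHom (q : ℕ) [Fact q.Prime] (k : ℕ) (hk : k ≠ 0) (x : ZMod (q ^ k))
    (h : IsUnit (ZMod.castHom (dvd_pow_self q hk) (ZMod q) x)) : IsUnit x := by
  have hq : q.Prime := Fact.out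
  have : NeZero (q ^ k) := ⟨pow_ne_zero k hq.ne_zero⟩
  have hx : ((x.val : ℕ) : ZMod (q ^ k)) = x := ZMod.natCast_zmod_val x
  rw [← hx, map_natCast, ZMod.isUnit_iff_coprime] at h
  rw [← hx, ZMod.isUnit_iff_coprime]
  exact Nat.Coprime.pow_right k h

theorem PC2_isUnit_of_map (q : ℕ) [Fact q.Prime] (d k : ℕ) (hk : k ≠ 0)
    (M : Matrix (Fin d) (Fin d) (ZMod (q ^ k)))
    (h : IsUnit (M.map (ZMod.castHom (dvd_pow_self q hk) (ZMod q)))) : IsUnit M := by
  rw [Matrix.isUnit_iff_isUnit_det] at h ⊢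
  apply PC2_isUnit_of_castHom q k hk
  have : (M.map (ZMod.castHom (dvd_pow_self q hk) (ZMod q))).det
      = ZMod.castHom (dvd_pow_self q hk) (ZMod q) M.det := by
    rw [RingHom.map_det]
    rfl
  rw [← this]
  exact h

theorem PC2b_red_surjective (q : ℕ) [Fact q.Prime] (d k : ℕ) (hk : k ≠ 0) :
    Function.Surjective (red q d k hk) := by
  intro g
  have hq : q.Prime := Fact.out
  have : NeZero (q ^ k) := ⟨pow_ne_zero k hq.ne_zero⟩
  have : NeZero q := ⟨hq.ne_zero⟩
  -- lift the entries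
  let M : Matrix (Fin d) (Fin d) (ZMod (q ^ k)) :=
    fun i j => (((g : Matrix (Fin d) (Fin d) (ZMod q)) i j).val : ZMod (q ^ k))
  have hM : M.map (ZMod.castHom (dvd_pow_self q hk) (ZMod q))
      = (g : Matrix (Fin d) (Fin d) (ZMod q)) := by
    ext i j
    show ZMod.castHom (dvd_pow_self q hk) (ZMod q)
      ((((g : Matrix (Fin d) (Fin d) (ZMod q)) i j).val : ℕ) : ZMod (q ^ k)) = _
    rw [map_natCast]
    exact ZMod.natCast_zmod_val ((g : Matrix (Fin d) (Fin d) (ZMod q)) i j)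
  have hu : IsUnit M := by
    apply PC2_isUnit_of_map q d k hk
    rw [hM]
    exact ⟨g, rfl⟩
  refine ⟨hu.unit, ?_⟩
  apply Matrix.GeneralLinearGroup.ext
  intro i j
  rw [red, Matrix.GeneralLinearGroup.map_apply]
  have := congrFun (congrFun hM i) j
  simpa [Matrix.map_apply] using this

end Cfsg.Agent.S4292L
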