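import Mathlib
import Cfsg.Agent.Lib.S4292.Defs
import Cfsg.Agent.Lib.S4292.PC1
import Cfsg.Agent.Lib.S4292.PC2

set_option autoImplicit false

namespace Cfsg.Agent.S4292L

universe u

theorem PC3_coe_red (q d k : ℕ) (hk : k ≠ 0) (g : Matrix.GeneralLinearGroup (Fin d) (ZMod (q ^ k))) :
    ((red q d k hk g : Matrix.GeneralLinearGroup (Fin d) (ZMod q)) : Matrix (Fin d) (Fin d) (ZMod q)) =
      (g : Matrix (Fin d) (Fin d) (ZMod (q ^ k))).map (ZMod.castHom (dvd_pow_self q hk) (ZMod q)) := by
  rfl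

/-- PC -/
theorem PC_fpfMat_lift {A : Type u} [Group A] [Finite A] {q : ℕ} [Fact q.Prime]
    (hq : ¬ q ∣ Nat.card A) {d : ℕ} (h : HasFpfMat A (ZMod q) d) (k : ℕ) (hk : 1 ≤ k) :
    HasFpfMat A (ZMod (q ^ k)) d := by
  classical
  obtain ⟨ρ, hρ⟩ := h
  have hk0 : k ≠ 0 := by omega
  have hqp : q.Prime := Fact.out
  haveI : NeZero q := ⟨hqp.ne_zero⟩
  haveI : NeZero (q ^ k) := ⟨pow_ne_zero k hqp.ne_zero⟩
  set π := red q d k hk0 with hπ
  have hπsurj : Function.Surjective π := PC2b_red_surjective q d k hk0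
  -- the preimage of the range
  let R : Subgroup (Matrix.GeneralLinearGroup (Fin d) (ZMod q)) := ρ.range
  let E : Subgroup (Matrix.GeneralLinearGroup (Fin d) (ZMod (q ^ k))) := R.comap π
  let πE : E →* R := π.subgroupComap R
  have hπE_apply : ∀ x : E, ((πE x : R) : Matrix.GeneralLinearGroup (Fin d) (ZMod q)) = π (x : _) :=
    fun x => rfl
  have hπEsurj : Function.Surjective πE := π.subgroupComap_surjective_of_surjective R hπsurj
  let U : Subgroup E := πE.ker
  -- U is a q-group
  have hUp : IsPGroup q U := by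
    have hker := PC1_ker_isPGroup q d k hk0
    intro g
    have hgker : ((g : E) : Matrix.GeneralLinearGroup (Fin d) (ZMod (q ^ k))) ∈ π.ker := by
      rw [MonoidHom.mem_ker]
      have := g.2
      rw [MonoidHom.mem_ker] at this
      have h2 := congrArg (fun r : R => (r : Matrix.GeneralLinearGroup (Fin d) (ZMod q))) this
      simpa [hπE_apply] using h2
    obtain ⟨n, hn⟩ := hker ⟨_, hgker⟩
    refine ⟨n, ?_⟩
    have h3 := congrArg (fun z : π.ker => (z : Matrix.GeneralLinearGroup (Fin d) (ZMod (q ^ k)))) hn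
    apply Subtype.ext
    apply Subtype.ext
    simpa using h3
  -- coprimality
  have hcop : Nat.Coprime (Nat.card U) U.index := by
    obtain ⟨n, hn⟩ := IsPGroup.exists_card_eq hUp
    rw [hn]
    apply Nat.Coprime.pow_left
    rw [Nat.Prime.coprime_iff_not_dvd hqp]
    intro hdvd
    apply hq
    have h1 : U.index = Nat.card πE.range := Subgroup.index_ker πE
    have h2 : πE.range = ⊤ := MonoidHom.range_eq_top.mpr hπEsurj
    have h3 : Nat.card R ∣ Nat.card A := Subgroup.card_range_dvd ρ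
    rw [h1, h2, Subgroup.card_top] at hdvd
    exact dvd_trans hdvd h3
  obtain ⟨C, hC⟩ := Subgroup.exists_right_complement'_of_coprime hcop
  -- πE restricted to C is bijective
  let f : C →* R := πE.comp C.subtype
  have hfinj : Function.Injective f := by
    rw [injective_iff_map_eq_one]
    intro c hc
    have h1 : (c : E) ∈ U := by
      rw [MonoidHom.mem_ker]; exact hc
    have h2 : (c : E) ∈ U ⊓ C := Subgroup.mem_inf.mpr ⟨h1, c.2⟩
    rw [hC.disjoint.eq_bot, Subgroup.mem_bot] at h2
    exact Subtype.ext h2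
  have hfsurj : Function.Surjective f := by
    intro r
    obtain ⟨x, hx⟩ := hπEsurj r
    obtain ⟨⟨u, c⟩, huc, -⟩ := hC.existsUnique x
    refine ⟨c, ?_⟩
    have hu : πE (u : E) = 1 := by
      have hmem : (u : E) ∈ U := u.2
      exact MonoidHom.mem_ker.mp hmem
    have : πE x = πE (u : E) * πE (c : E) := by
      rw [← map_mul]
      congr 1
      exact huc.symm
    rw [← hx, this, hu, one_mul]
    rfl
  let iso : C ≃* R := MulEquiv.ofBijective f ⟨hfinj, hfsurj⟩
  let ρk : A →* Matrix.GeneralLinearGroup (Fin d) (ZMod (q ^ k)) :=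
    (E.subtype.comp C.subtype).comp (iso.symm.toMonoidHom.comp ρ.rangeRestrict)
  have hπρ : ∀ a : A, π (ρk a) = ρ a := by
    intro a
    have h1 : f (iso.symm (ρ.rangeRestrict a)) = ρ.rangeRestrict a := iso.apply_symm_apply _
    have h2 := congrArg (fun r : R => (r : Matrix.GeneralLinearGroup (Fin d) (ZMod q))) h1
    simpa [f, hπE_apply, ρk] using h2
  refine ⟨ρk, ?_⟩
  intro a ha
  apply PC2_isUnit_of_map q d k hk0
  have h1 := hρ a ha
  have h2 : ((ρk a : Matrix (Fin d) (Fin d) (ZMod (q ^ k))) - 1).map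
      (ZMod.castHom (dvd_pow_self q hk0) (ZMod q)) =
      ((ρ a : Matrix (Fin d) (Fin d) (ZMod q)) - 1) := by
    rw [← hπρ a, hπ, PC3_coe_red]
    rw [Matrix.map_sub (f := (ZMod.castHom (dvd_pow_self q hk0) (ZMod q))) (by intro x y; exact map_sub _ x y)]
    rw [Matrix.map_one _ (map_zero _) (map_one _)]
  rw [h2]
  exact h1

end Cfsg.Agent.S4292L
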