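import Mathlib
import Cfsg.Agent.Lib.S4292.Defs

set_option autoImplicit false

namespace Cfsg.Agent.S4292L

universe u v

/-- a unit times the geometric sum vanishing forces the geometric sum to vanish -/
theorem PD1_geom_zero {R : Type*} [Ring R] (x : R) (n : ℕ) (hx : IsUnit (x - 1)) (hn : x ^ n = 1) :
    ∑ i ∈ Finset.range n, x ^ i = 0 := by
  have h := mul_geom_sum x n
  rw [hn, sub_self] at h
  exact (hx.mul_right_eq_zero).mp h

/-- the ring hom `Lam A →+* Mat_d(R)` induced by a fixed-point-free matrix representation -/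
theorem PD1_exists_hom {A : Type u} [Group A] [Finite A] {R : Type} [CommRing R] {d : ℕ}
    (h : HasFpfMat A R d) : Nonempty (Lam A →+* Matrix (Fin d) (Fin d) R) := by
  obtain ⟨ρ, hρ⟩ := h
  let ψ : A →* Matrix (Fin d) (Fin d) R := (Units.coeHom _).comp ρ
  let f : MonoidAlgebra ℤ A →+* Matrix (Fin d) (Fin d) R :=
    (MonoidAlgebra.lift ℤ (Matrix (Fin d) (Fin d) R) A ψ : MonoidAlgebra ℤ A →ₐ[ℤ] _).toRingHom
  have hf : ∀ a : A, f (MonoidAlgebra.of ℤ A a) = (ρ a : Matrix (Fin d) (Fin d) R) := by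
    intro a
    show (MonoidAlgebra.lift ℤ (Matrix (Fin d) (Fin d) R) A ψ) (MonoidAlgebra.of ℤ A a) = _
    rw [MonoidAlgebra.lift_of]
    rfl
  have hrel : ∀ ⦃x y : MonoidAlgebra ℤ A⦄, relN A x y → f x = f y := by
    rintro x y ⟨a, ha, rfl, rfl⟩
    rw [map_zero, map_sum]
    have : ∀ i ∈ Finset.range (orderOf a), f (MonoidAlgebra.of ℤ A (a ^ i)) =
        ((ρ a : Matrix (Fin d) (Fin d) R)) ^ i := by
      intro i _
      rw [hf, map_pow]
      simp
    rw [Finset.sum_congr rfl this]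
    apply PD1_geom_zero _ _ (hρ a ha)
    have : (ρ a) ^ orderOf a = 1 := by rw [← map_pow, pow_orderOf_eq_one, map_one]
    have h2 := congrArg (fun u : Matrix.GeneralLinearGroup (Fin d) R => (u : Matrix (Fin d) (Fin d) R)) this
    simpa using h2
  exact ⟨RingQuot.lift ⟨f, hrel⟩⟩

theorem PD1_intCast_eq_zero {A : Type u} [Group A] [Finite A] {q : ℕ} (hq : q.Prime) {d : ℕ}
    (hd : 0 < d) (h : ∀ k : ℕ, 1 ≤ k → HasFpfMat A (ZMod (q ^ k)) d)
    (D : ℤ) (hD : (D : Lam A) = 0) : D = 0 := by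
  have key : ∀ k : ℕ, 1 ≤ k → ((q ^ k : ℕ) : ℤ) ∣ D := by
    intro k hk
    obtain ⟨g⟩ := PD1_exists_hom (h k hk)
    have h1 : g (D : Lam A) = 0 := by rw [hD, map_zero]
    rw [map_intCast] at h1
    have h2 := congrFun (congrFun h1 ⟨0, hd⟩) ⟨0, hd⟩
    have h3 : ((D : ZMod (q ^ k))) = 0 := by
      rw [← Matrix.diagonal_intCast, Matrix.diagonal_apply_eq] at h2
      simpa using h2
    exact (ZMod.intCast_zmod_eq_zero_iff_dvd D (q ^ k)).mp h3
  by_contra hne
  have hk := key (D.natAbs + 1) (by omega)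
  have hlt : D.natAbs < q ^ (D.natAbs + 1) :=
    lt_of_lt_of_le (Nat.lt_pow_self hq.one_lt) (Nat.pow_le_pow_right hq.pos (Nat.le_succ _))
  have : (q ^ (D.natAbs + 1)) ∣ D.natAbs := by
    have := Int.natAbs_dvd_natAbs.mpr hk
    simpa using this
  have := Nat.le_of_dvd (Int.natAbs_pos.mpr hne) this
  omega

end Cfsg.Agent.S4292L
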