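import Mathlib
import Cfsg.Agent.Lib.S4292.Defs

set_option autoImplicit false

namespace Cfsg.Agent.S4292L

universe u v

/-- PD2 -/
theorem PD2_fpfMod_of_char {A : Type u} [Group A] [Finite A]
    (hchar : ∀ D : ℤ, (D : Lam A) = 0 → D = 0)
    (ℓ : ℕ) (hℓ : ℓ.Prime) (hℓA : ¬ ℓ ∣ Nat.card A) : HasFpfMod.{u, u} A ℓ := by
  classical
  let R := Lam A
  let π : MonoidAlgebra ℤ A →+* R := RingQuot.mkRingHom (relN A)
  have hπsurj : Function.Surjective π := RingQuot.mkRingHom_surjective (relN A)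
  let φ₀ : A →* R := π.toMonoidHom.comp (MonoidAlgebra.of ℤ A)
  have hφ₀ : ∀ a : A, φ₀ a = π (MonoidAlgebra.of ℤ A a) := fun a => rfl
  -- R is a finitely generated ℤ-module
  have hfinR : Module.Finite ℤ R :=
    Module.Finite.of_surjective (π.toAddMonoidHom.toIntLinearMap) hπsurj
  -- the module
  let I : Ideal R := Ideal.span {(ℓ : R)}
  let inst : DistribMulAction A (R ⧸ I) := DistribMulAction.compHom (R ⧸ I) φ₀
  have hsmul : ∀ (h : A) (m : R ⧸ I), h • m = φ₀ h • m := fun _ _ => rfl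
  have hpM : ∀ m : R ⧸ I, ℓ • m = 0 := by
    intro m
    obtain ⟨r, rfl⟩ := Submodule.Quotient.mk_surjective I m
    rw [← Submodule.Quotient.mk_smul, Submodule.Quotient.mk_eq_zero]
    apply Ideal.mem_span_singleton'.mpr
    refine ⟨r, ?_⟩
    rw [nsmul_eq_mul]
    exact ((Nat.cast_commute ℓ r).eq).symm
  -- finiteness
  have hfinM : Finite (R ⧸ I) := by
    have h1 : Module.Finite ℤ (R ⧸ I) :=
      Module.Finite.of_surjective (I.mkQ.toAddMonoidHom.toIntLinearMap) (Submodule.mkQ_surjective I)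
    apply Module.finite_of_fg_torsion
    intro x
    refine ⟨⟨(ℓ : ℤ), mem_nonZeroDivisors_of_ne_zero (by exact_mod_cast hℓ.ne_zero)⟩, ?_⟩
    rw [Submonoid.smul_def]
    simp only [natCast_zsmul]
    exact hpM x
  -- nontriviality
  have hntM : Nontrivial (R ⧸ I) := by
    rw [Submodule.Quotient.nontrivial_iff, Ideal.ne_top_iff_one]
    intro h1
    obtain ⟨r, hr⟩ := Ideal.mem_span_singleton'.mp h1
    have hin : (⊤ : Submodule ℤ R) ≤ (Ideal.span {(ℓ : ℤ)}) • (⊤ : Submodule ℤ R) := by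
      intro x _
      have hx : x = (ℓ : ℤ) • (r * x) := by
        have h2 : (ℓ : ℤ) • (r * x) = (ℓ : R) * (r * x) := by
          rw [zsmul_eq_mul]; simp
        rw [h2, ← mul_assoc, ((Nat.cast_commute ℓ r).eq), hr, one_mul]
      rw [hx]
      exact Submodule.smul_mem_smul (Ideal.mem_span_singleton_self _) Submodule.mem_top
    obtain ⟨k, hk1, hk2⟩ := Submodule.exists_sub_one_mem_and_smul_eq_zero_of_fg_of_le_smul
      (Ideal.span {(ℓ : ℤ)}) (⊤ : Submodule ℤ R) Module.Finite.fg_top hin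
    have h3 := hk2 1 Submodule.mem_top
    have h4 : (k : R) = 0 := by
      rw [zsmul_eq_mul, mul_one] at h3
      exact h3
    have h6 : k = 0 := hchar k h4
    have h7 : (ℓ : ℤ) ∣ k - 1 := Ideal.mem_span_singleton.mp hk1
    have h8 : (ℓ : ℤ) ∣ 1 := by
      rw [h6, zero_sub] at h7
      exact (dvd_neg.mp h7)
    have h9 : ℓ ∣ 1 := by exact_mod_cast h8
    exact hℓ.one_lt.ne' (Nat.dvd_one.mp h9)
  -- fixed-point-freeness
  have hfpf : ∀ u : A, u ≠ 1 → ∀ a : R ⧸ I, u • a = a → a = 0 := by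
    intro h hh1 m hm
    rw [hsmul] at hm
    have hS : (∑ i ∈ Finset.range (orderOf h), (φ₀ h) ^ i : R) = 0 := by
      have hrel : relN A (∑ i ∈ Finset.range (orderOf h), MonoidAlgebra.of ℤ A (h ^ i)) 0 :=
        ⟨h, hh1, rfl, rfl⟩
      have h1 := RingQuot.mkRingHom_rel hrel
      rw [map_zero, map_sum] at h1
      rw [← h1]
      apply Finset.sum_congr rfl
      intro i _
      rw [← map_pow]
      rfl
    have hpow : ∀ i : ℕ, (φ₀ h) ^ i • m = m := by
      intro i
      induction i with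
      | zero => rw [pow_zero, one_smul]
      | succ i ih => rw [pow_succ, mul_smul, hm, ih]
    have h1 : (∑ i ∈ Finset.range (orderOf h), (φ₀ h) ^ i : R) • m = orderOf h • m := by
      rw [Finset.sum_smul, Finset.sum_congr rfl (fun i _ => hpow i), Finset.sum_const,
        Finset.card_range]
    rw [hS, zero_smul] at h1
    have h2 : addOrderOf m ∣ orderOf h := addOrderOf_dvd_of_nsmul_eq_zero h1.symm
    have h3 : addOrderOf m ∣ ℓ := addOrderOf_dvd_of_nsmul_eq_zero (hpM m)
    have hcop : (orderOf h).Coprime ℓ := by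
      apply Nat.Coprime.symm
      rw [Nat.Prime.coprime_iff_not_dvd hℓ]
      intro hd
      exact hℓA (hd.trans (orderOf_dvd_natCard h))
    have h4 : addOrderOf m ∣ 1 := by
      have := Nat.dvd_gcd h2 h3
      rwa [hcop] at this
    exact AddMonoid.addOrderOf_eq_one_iff.mp (Nat.dvd_one.mp h4)
  exact ⟨R ⧸ I, inferInstance, inst, hfinM, hntM, hpM, hfpf⟩

end Cfsg.Agent.S4292L
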