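import Mathlib
import Cfsg.Agent.Lib.S4292.Defs
import Cfsg.Agent.Lib.S4292.PD1
import Cfsg.Agent.Lib.S4292.PD2

set_option autoImplicit false

namespace Cfsg.Agent.S4292L

universe u v

/-- PD = PD2 ∘ PD1 -/
theorem PD_fpfMod_of_lifts {A : Type u} [Group A] [Finite A] {q : ℕ} (hq : q.Prime) {d : ℕ}
    (hd : 0 < d) (h : ∀ k : ℕ, 1 ≤ k → HasFpfMat A (ZMod (q ^ k)) d)
    (ℓ : ℕ) (hℓ : ℓ.Prime) (hℓA : ¬ ℓ ∣ Nat.card A) : HasFpfMod.{u, u} A ℓ :=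
  PD2_fpfMod_of_char (fun D hD => PD1_intCast_eq_zero hq hd h D hD) ℓ hℓ hℓA

end Cfsg.Agent.S4292L
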