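import Mathlib
import Cfsg.Agent.Lib.S4292.Defs

set_option autoImplicit false

/-! # S4292, piece PE (helper8): fixed-point-free modules for a product of coprime order

If `A` acts fpf on `MA` and `B` acts fpf on `MB` (finite nontrivial abelian groups killed by the
prime `ℓ`) and `(|A|, |B|) = 1`, then `A × B` acts fpf on `Hom(MA, MB)` via
`(a, b) • f = b • f (a⁻¹ • ·)`. -/

namespace Cfsg.Agent.S4292L

universe u v

section act

variable {A : Type u} {B : Type v} [Group A] [Group B]
  {MA : Type u} {MB : Type v} [AddCommGroup MA] [AddCommGroup MB]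
  [DistribMulAction A MA] [DistribMulAction B MB]

/-- the action of `A × B` on `Hom(MA, MB)` -/
def PE_act (g : A × B) (f : MA →+ MB) : MA →+ MB :=
  (DistribSMul.toAddMonoidHom MB g.2).comp
    (f.comp (DistribSMul.toAddMonoidHom MA g.1⁻¹))

theorem PE_act_apply (g : A × B) (f : MA →+ MB) (m : MA) :
    PE_act g f m = g.2 • f (g.1⁻¹ • m) := rfl

/-- `Hom(MA, MB)` as an `A × B`-module -/
def PE_distribMulAction : DistribMulAction (A × B) (MA →+ MB) where
  smul := PE_act
  one_smul f := by
    show PE_act 1 f = f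
    ext m
    simp [PE_act_apply]
  mul_smul g h f := by
    show PE_act (g * h) f = PE_act g (PE_act h f)
    ext m
    simp [PE_act_apply, mul_smul]
  smul_zero g := by
    show PE_act g 0 = 0
    ext m
    simp [PE_act_apply]
  smul_add g f f' := by
    show PE_act g (f + f') = PE_act g f + PE_act g f'
    ext m
    simp [PE_act_apply]

theorem PE_act_pow (g : A × B) (f : MA →+ MB) (h : PE_act g f = f) (n : ℕ) :
    PE_act (g ^ n) f = f := by
  induction n with
  | zero =>
    ext m
    simp [PE_act_apply]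
  | succ n ih =>
    have : PE_act (g ^ n * g) f = PE_act (g ^ n) (PE_act g f) := by
      ext m
      simp [PE_act_apply, mul_smul]
    rw [pow_succ, this, h, ih]

end act

/-- a nonzero homomorphism between nonzero `𝔽_ℓ`-spaces (module version) -/
theorem PE_exists_ne_zero_aux {ℓ : ℕ} [Fact ℓ.Prime] {MA : Type u} {MB : Type v}
    [AddCommGroup MA] [AddCommGroup MB] [Module (ZMod ℓ) MA] [Module (ZMod ℓ) MB]
    [Nontrivial MA] [Nontrivial MB] : ∃ f : MA →+ MB, f ≠ 0 := by
  obtain ⟨v, hv⟩ := exists_ne (0 : MA)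
  obtain ⟨w, hw⟩ := exists_ne (0 : MB)
  obtain ⟨φ, hφ⟩ := Module.Projective.exists_dual_ne_zero (ZMod ℓ) hv
  refine ⟨(φ.smulRight w).toAddMonoidHom, ?_⟩
  intro h
  have h1 : (φ.smulRight w) v = 0 := by
    have := DFunLike.congr_fun h v
    simpa using this
  rw [LinearMap.smulRight_apply] at h1
  exact (smul_ne_zero hφ hw) h1

/-- a nonzero homomorphism between nonzero abelian groups killed by the prime `ℓ` -/
theorem PE_exists_ne_zero {ℓ : ℕ} (hℓ : ℓ.Prime) {MA : Type u} {MB : Type v}
    [AddCommGroup MA] [AddCommGroup MB] [Nontrivial MA] [Nontrivial MB]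
    (hA : ∀ m : MA, ℓ • m = 0) (hB : ∀ m : MB, ℓ • m = 0) :
    ∃ f : MA →+ MB, f ≠ 0 :=
  @PE_exists_ne_zero_aux ℓ ⟨hℓ⟩ MA MB _ _ (AddCommGroup.zmodModule hA)
    (AddCommGroup.zmodModule hB) _ _

/-- a fixed-point-free additive automorphism of a finite abelian group: `x ↦ a • x - x` is onto -/
theorem PE_sub_surjective {A : Type u} [Group A] {M : Type u} [AddCommGroup M] [DistribMulAction A M]
    [Finite M] (a : A) (hfix : ∀ m : M, a • m = m → m = 0) :
    Function.Surjective (fun m : M => a • m - m) := by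
  apply Finite.surjective_of_injective
  intro x y hxy
  have h1 : a • (x - y) = x - y := by
    have h0 : a • x - x = a • y - y := hxy
    rw [smul_sub]
    rw [sub_eq_sub_iff_add_eq_add] at h0 ⊢
    rw [h0]; abel
  exact sub_eq_zero.mp (hfix _ h1)

/-- PE -/
theorem PE_fpfMod_prod {A : Type u} {B : Type v} [Group A] [Group B] [Finite A] [Finite B]
    {ℓ : ℕ} (hℓ : ℓ.Prime) (hcop : (Nat.card A).Coprime (Nat.card B))
    (hA : HasFpfMod.{u, u} A ℓ) (hB : HasFpfMod.{v, v} B ℓ) :
    HasFpfMod.{max u v, max u v} (A × B) ℓ := by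
  obtain ⟨MA, iA1, iA2, finA, ntA, killA, fpfA⟩ := hA
  obtain ⟨MB, iB1, iB2, finB, ntB, killB, fpfB⟩ := hB
  refine ⟨(MA →+ MB), inferInstance, PE_distribMulAction, ?_, ?_, ?_, ?_⟩
  · exact Finite.of_injective (fun f : MA →+ MB => (f : MA → MB)) DFunLike.coe_injective
  · obtain ⟨f, hf⟩ := PE_exists_ne_zero hℓ killA killB
    exact ⟨⟨f, 0, hf⟩⟩
  · intro f
    ext m
    simp only [AddMonoidHom.coe_smul, Pi.smul_apply, AddMonoidHom.zero_apply]
    exact killB _
  · rintro ⟨a, b⟩ hab f hf
    have hf' : PE_act (a, b) f = f := hf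
    by_cases ha : a = 1
    · -- then `b ≠ 1` and `b • f m = f m`
      have hb : b ≠ 1 := by
        intro hb
        exact hab (by rw [ha, hb]; rfl)
      ext m
      have h1 := DFunLike.congr_fun hf' m
      rw [PE_act_apply] at h1
      simp only [ha, inv_one, one_smul] at h1
      exact fpfB b hb _ h1
    · -- use the power `|B|`
      have hpow := PE_act_pow (a, b) f hf' (Nat.card B)
      have hb1 : b ^ Nat.card B = 1 := pow_card_eq_one'
      have ha1 : a ^ Nat.card B ≠ 1 := by
        intro h
        have h1 : orderOf a ∣ Nat.card B := orderOf_dvd_of_pow_eq_one h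
        have h2 : orderOf a ∣ Nat.card A := orderOf_dvd_natCard a
        have h3 : orderOf a ∣ 1 := by
          have := Nat.dvd_gcd h2 h1
          rwa [hcop] at this
        exact ha (orderOf_eq_one_iff.mp (Nat.dvd_one.mp h3))
      set a' := a ^ Nat.card B with ha'
      have hg : (a, b) ^ Nat.card B = (a', 1) := by
        rw [Prod.pow_mk, hb1]
      rw [hg] at hpow
      have hinv : a'⁻¹ ≠ 1 := by
        intro h
        exact ha1 (inv_eq_one.mp h)
      have hsurj := PE_sub_surjective (M := MA) a'⁻¹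
        (fun m hm => fpfA a'⁻¹ hinv m hm)
      ext m
      obtain ⟨m0, hm0⟩ := hsurj m
      have h1 := DFunLike.congr_fun hpow m0
      rw [PE_act_apply] at h1
      simp only [one_smul] at h1
      simp only at hm0
      rw [AddMonoidHom.zero_apply, ← hm0, map_sub, h1, sub_self]

end Cfsg.Agent.S4292L
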