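import Mathlib
import Cfsg.Agent.Lib.S4292.Defs
import Cfsg.Agent.H2.FrobeniusLower
import Cfsg.Agent.H2.FrobeniusSemidirect

set_option autoImplicit false

namespace Cfsg.Agent.S4292L

open Cfsg.Agent.H2

universe u v

/-- PE2 -/
theorem PE2_isFC_of_fpfMod {G : Type u} [Group G] [Finite G] [Nontrivial G] {ℓ : ℕ}
    (h : HasFpfMod.{u, v} G ℓ) : IsFC G := by
  obtain ⟨M, instM, instA, hfin, hnt, -, hfpf⟩ := h
  have hF := isFrobeniusComplement_of_distribMulAction G M hfpf
  have hfinL : Finite (Multiplicative M ⋊[frobAction G M] G) :=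
    Finite.of_equiv _ SemidirectProduct.equivProd.symm
  obtain ⟨L, instL, finL, C, hC, ⟨e⟩⟩ := Cfsg.Agent.H2.FrobLower.exists_type_zero _ hF
  have e2 : G ≃* (SemidirectProduct.inr :
      G →* Multiplicative M ⋊[frobAction G M] G).range :=
    MonoidHom.ofInjective SemidirectProduct.inr_injective
  exact ⟨L, instL, finL, C, hC, ⟨e2.trans e⟩⟩

end Cfsg.Agent.S4292L
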