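import Mathlib
import Cfsg.Agent.Lib.S4292.Defs
import Cfsg.Agent.S0035
import Cfsg.Agent.S0039
import Cfsg.Agent.H2.FrobeniusLower
import Cfsg.Agent.H2.FrobeniusSemidirect

set_option autoImplicit false

/-! # S4292, pieces PF + PF2 (helper2): `IsFC (A × B) → IsFC A`, transport of `IsFC` along an isomorphism -/

namespace Cfsg.Agent.S4292L

open Cfsg.Agent.H2

universe u v

/-- PF2 -/
theorem PF2_isFC_congr {G : Type u} {G' : Type v} [Group G] [Group G'] (e : G ≃* G')
    (h : IsFC G) : IsFC G' := by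
  obtain ⟨L, instL, finL, H, hH, ⟨f⟩⟩ := h
  exact ⟨L, instL, finL, H, hH, ⟨e.symm.trans f⟩⟩

/-- PF -/
theorem PF_isFC_left {A : Type u} {B : Type v} [Group A] [Group B] [Finite A] [Finite B]
    [Nontrivial A] (h : IsFC (A × B)) : IsFC A := by
  obtain ⟨L, instL, finL, H, hH, ⟨e⟩⟩ := h
  obtain ⟨N, -, hNn, hNH⟩ := Cfsg.Agent.S0035.result H hH
  have hNbot : N ≠ ⊥ := by
    intro hb
    rw [hb, Subgroup.isComplement'_bot_left] at hNH
    exact hH.2.1 hNH
  haveI : Nontrivial ↥N := (Subgroup.nontrivial_iff_ne_bot N).mpr hNbot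
  -- the embedding of `A` into `L`
  let ι : A →* L := H.subtype.comp (e.toMonoidHom.comp (MonoidHom.inl A B))
  have hιinj : Function.Injective ι := by
    intro a a' haa
    have h1 : e (a, 1) = e (a', 1) := Subtype.ext haa
    have h2 := e.injective h1
    exact (Prod.mk.inj h2).1
  have hιH : ∀ a : A, ι a ∈ H := fun a => (e (a, 1)).2
  let φ : A →* MulAut ↥N := (MulAut.conjNormal (H := N)).comp ι
  have hfpf : ∀ a : A, a ≠ 1 → ∀ v : ↥N, φ a v = v → v = 1 := by
    intro a ha v hv
    have hcrit := (Cfsg.Agent.S0039.result N H hNH hNbot hH.1).mp hH (ι a) (hιH a)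
      (by
        intro h1
        apply ha
        apply hιinj
        rw [h1, map_one])
    have hv' : ι a * (v : L) * (ι a)⁻¹ = (v : L) := by
      have := congrArg (fun w : ↥N => (w : L)) hv
      simpa [φ, MulAut.conjNormal_apply] using this
    have hcen : (v : L) ∈ Subgroup.centralizer {ι a} := by
      rw [Subgroup.mem_centralizer_iff]
      intro w hw
      rw [Set.mem_singleton_iff] at hw
      subst hw
      calc ι a * (v : L) = ι a * (v : L) * (ι a)⁻¹ * ι a := by group
        _ = (v : L) * ι a := by rw [hv']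
    have hmem : (v : L) ∈ N ⊓ Subgroup.centralizer {ι a} := Subgroup.mem_inf.mpr ⟨v.2, hcen⟩
    rw [hcrit, Subgroup.mem_bot] at hmem
    exact Subtype.ext hmem
  have hF := isFrobeniusComplement_inr_range (φ := φ) hfpf
  haveI : Finite (↥N ⋊[φ] A) := Finite.of_equiv _ SemidirectProduct.equivProd.symm
  obtain ⟨L', instL', finL', C, hC, ⟨f⟩⟩ := Cfsg.Agent.H2.FrobLower.exists_type_zero _ hF
  have e2 : A ≃* (SemidirectProduct.inr : A →* ↥N ⋊[φ] A).range :=
    MonoidHom.ofInjective SemidirectProduct.inr_injective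
  exact ⟨L', instL', finL', C, hC, ⟨e2.trans f⟩⟩

end Cfsg.Agent.S4292L
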