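import Mathlib
import Cfsg.Agent.Lib.S4292.Defs
import Cfsg.Agent.S0035
import Cfsg.Agent.S0039
import Cfsg.Agent.H2.FrobComplSylow

/-!
# S4292 piece PG (helper5): a direct product that is a Frobenius complement has coprime factors
-/

set_option autoImplicit false

namespace Cfsg.Agent.S4292L

universe u v

/-- the product of two cyclic groups of order `p` is a `p`-group -/
theorem PG_isPGroup_prod {A : Type u} {B : Type v} [Group A] [Group B] (p : ℕ) (a : A) (b : B)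
    (ha : a ^ p = 1) (hb : b ^ p = 1) :
    IsPGroup p ↥((Subgroup.zpowers a).prod (Subgroup.zpowers b)) := by
  intro g
  refine ⟨1, ?_⟩
  obtain ⟨⟨g1, g2⟩, hg⟩ := g
  rw [Subgroup.mem_prod] at hg
  obtain ⟨⟨i, hi⟩, ⟨j, hj⟩⟩ := hg
  simp only at hi hj
  apply Subtype.ext
  rw [pow_one, Subgroup.coe_pow, Subgroup.coe_one, Prod.pow_mk]
  show (g1 ^ p, g2 ^ p) = (1, 1)
  rw [← hi, ← hj, ← zpow_natCast, ← zpow_natCast, ← zpow_mul, ← zpow_mul, mul_comm i, mul_comm j,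
    zpow_mul, zpow_mul, zpow_natCast, zpow_natCast, ha, hb, one_zpow, one_zpow]

/-- PG -/
theorem PG_coprime_of_isFC_prod {A : Type u} {B : Type v} [Group A] [Group B] [Finite A]
    [Finite B] [Nontrivial A] [Nontrivial B] (h : IsFC (A × B)) :
    (Nat.card A).Coprime (Nat.card B) := by
  classical
  obtain ⟨L, iL, iF, H, hH, ⟨e⟩⟩ := h
  by_contra hcop
  obtain ⟨p, hp, hpA, hpB⟩ := Nat.Prime.not_coprime_iff_dvd.mp hcop
  have : Fact p.Prime := ⟨hp⟩
  obtain ⟨a, ha⟩ := exists_prime_orderOf_dvd_card' p hpA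
  obtain ⟨b, hb⟩ := exists_prime_orderOf_dvd_card' p hpB
  have hap : a ^ p = 1 := by rw [← ha]; exact pow_orderOf_eq_one a
  have hbp : b ^ p = 1 := by rw [← hb]; exact pow_orderOf_eq_one b
  have ha1 : a ≠ 1 := by
    intro h1; rw [h1, orderOf_one] at ha; exact hp.one_lt.ne ha
  -- the kernel
  obtain ⟨N, -, hNn, hNc⟩ := Cfsg.Agent.S0035.result H hH
  have := hNn
  have hN : N ≠ ⊥ := by
    intro h0
    rw [h0, Subgroup.isComplement'_bot_left] at hNc
    exact hH.2.1 hNc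
  have hfpf := (Cfsg.Agent.S0039.result N H hNc hN hH.1).mp hH
  -- the p-subgroup
  have hQ0 := PG_isPGroup_prod p a b hap hbp
  have hQ : IsPGroup p ↥(((Subgroup.zpowers a).prod (Subgroup.zpowers b)).map e.toMonoidHom) :=
    hQ0.map e.toMonoidHom
  obtain ⟨P, hP⟩ := hQ.exists_le_sylow
  have hxQ : e (a, 1) ∈ (P : Subgroup ↥H) := by
    apply hP
    refine ⟨(a, 1), ?_, rfl⟩
    rw [Subgroup.coe_prod]
    exact ⟨Subgroup.mem_zpowers a, Subgroup.one_mem _⟩
  have hyQ : e (1, b) ∈ (P : Subgroup ↥H) := by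
    apply hP
    refine ⟨(1, b), ?_, rfl⟩
    rw [Subgroup.coe_prod]
    exact ⟨Subgroup.one_mem _, Subgroup.mem_zpowers b⟩
  have hox : orderOf (⟨e (a, 1), hxQ⟩ : ↥(P : Subgroup ↥H)) = p := by
    rw [Subgroup.orderOf_mk, MulEquiv.orderOf_eq, Prod.orderOf_mk, orderOf_one, ha]
    exact Nat.lcm_one_right p
  have hoy : orderOf (⟨e (1, b), hyQ⟩ : ↥(P : Subgroup ↥H)) = p := by
    rw [Subgroup.orderOf_mk, MulEquiv.orderOf_eq, Prod.orderOf_mk, orderOf_one, hb]
    exact Nat.lcm_one_left p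
  have hUV := Cfsg.Agent.H2.FCS.huniq_of_fpf N H hN hfpf p P
    (Subgroup.zpowers ⟨e (a, 1), hxQ⟩) (Subgroup.zpowers ⟨e (1, b), hyQ⟩)
    (by rw [Nat.card_zpowers, hox]) (by rw [Nat.card_zpowers, hoy])
  have hmem : (⟨e (a, 1), hxQ⟩ : ↥(P : Subgroup ↥H)) ∈ Subgroup.zpowers ⟨e (1, b), hyQ⟩ := by
    rw [← hUV]; exact Subgroup.mem_zpowers _
  obtain ⟨k, hk⟩ := hmem
  have hk' : e (1, b) ^ k = e (a, 1) := by
    have := congrArg (fun z : ↥(P : Subgroup ↥H) => (z : ↥H)) hk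
    simpa using this
  rw [← map_zpow] at hk'
  have := e.injective hk'
  rw [Prod.ext_iff] at this
  apply ha1
  have h1 := this.1
  simp at h1
  exact h1.symm

end Cfsg.Agent.S4292L
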