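import Mathlib
import Cfsg.Agent.Lib.S4292.Defs
import Cfsg.Agent.Lib.S4292.PA
import Cfsg.Agent.Lib.S4292.PB
import Cfsg.Agent.Lib.S4292.PC3
import Cfsg.Agent.Lib.S4292.PD
import Cfsg.Agent.Lib.S4292.PE
import Cfsg.Agent.Lib.S4292.PE2
import Cfsg.Agent.Lib.S4292.PF
import Cfsg.Agent.Lib.S4292.PG

set_option autoImplicit false

namespace Cfsg.Agent.S4292L

universe u v

/-- every Frobenius complement has fpf modules in every coprime characteristic -/
theorem Main_fpfMod_of_isFC {A : Type u} [Group A] [Finite A] (h : IsFC A)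
    (ℓ : ℕ) (hℓ : ℓ.Prime) (hℓA : ¬ ℓ ∣ Nat.card A) : HasFpfMod.{u, u} A ℓ := by
  obtain ⟨q, hq, hqA, hM⟩ := PA_exists_fpfMod_of_isFC h
  have : Fact q.Prime := ⟨hq⟩
  obtain ⟨d, hd, hmat⟩ := PB_fpfMat_of_fpfMod hM
  exact PD_fpfMod_of_lifts hq hd (fun k hk => PC_fpfMat_lift hqA hmat k hk) ℓ hℓ hℓA

theorem Main_iff {A : Type u} {B : Type v} [Group A] [Finite A] [Nontrivial A] [Group B] [Finite B]
    [Nontrivial B] :
    IsFC (A × B) ↔ (IsFC A ∧ IsFC B ∧ (Nat.card A).Coprime (Nat.card B)) := by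
  constructor
  · intro h
    refine ⟨PF_isFC_left h, ?_, PG_coprime_of_isFC_prod h⟩
    exact PF_isFC_left (PF2_isFC_congr (MulEquiv.prodComm : A × B ≃* B × A) h)
  · rintro ⟨hA, hB, hcop⟩
    obtain ⟨ℓ, hℓge, hℓ⟩ := Nat.exists_infinite_primes (Nat.card A * Nat.card B + 1)
    have hApos : 0 < Nat.card A := Nat.card_pos
    have hBpos : 0 < Nat.card B := Nat.card_pos
    have hℓA : ¬ ℓ ∣ Nat.card A := by
      intro hd
      have := Nat.le_of_dvd hApos hd
      have : Nat.card A ≤ Nat.card A * Nat.card B := Nat.le_mul_of_pos_right _ hBpos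
      omega
    have hℓB : ¬ ℓ ∣ Nat.card B := by
      intro hd
      have := Nat.le_of_dvd hBpos hd
      have : Nat.card B ≤ Nat.card A * Nat.card B := Nat.le_mul_of_pos_left _ hApos
      omega
    have h1 := Main_fpfMod_of_isFC hA ℓ hℓ hℓA
    have h2 := Main_fpfMod_of_isFC hB ℓ hℓ hℓB
    exact PE2_isFC_of_fpfMod (PE_fpfMod_prod hℓ hcop h1 h2)

end Cfsg.Agent.S4292L
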