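import Mathlib

set_option autoImplicit false

namespace Cfsg.Agent.S4292L

universe u v

/-- power trick: with coprime orders, `(a, 1)` is a power of `(a, b)` -/
theorem PEa_exists_pow_left {A : Type u} {B : Type v} [Group A] [Group B] [Finite A] [Finite B]
    (hcop : (Nat.card A).Coprime (Nat.card B)) (a : A) (b : B) :
    ∃ n : ℕ, (a, b) ^ n = (a, 1) := by
  obtain ⟨k, hk1, hk0⟩ := Nat.chineseRemainder hcop 1 0
  refine ⟨k, ?_⟩
  have ha : a ^ k = a := by
    have h1 : k ≡ 1 [MOD orderOf a] := hk1.of_dvd (orderOf_dvd_natCard a)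
    have := (pow_eq_pow_iff_modEq (x := a)).2 h1
    simpa using this
  have hb : b ^ k = 1 := by
    have h1 : k ≡ 0 [MOD orderOf b] := hk0.of_dvd (orderOf_dvd_natCard b)
    have := (pow_eq_pow_iff_modEq (x := b)).2 h1
    simpa using this
  ext
  · simpa using ha
  · simpa using hb

/-- power trick, other side -/
theorem PEa_exists_pow_right {A : Type u} {B : Type v} [Group A] [Group B] [Finite A] [Finite B]
    (hcop : (Nat.card A).Coprime (Nat.card B)) (a : A) (b : B) :
    ∃ n : ℕ, (a, b) ^ n = (1, b) := by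
  obtain ⟨k, hk0, hk1⟩ := Nat.chineseRemainder hcop 0 1
  refine ⟨k, ?_⟩
  have ha : a ^ k = 1 := by
    have h1 : k ≡ 0 [MOD orderOf a] := hk0.of_dvd (orderOf_dvd_natCard a)
    have := (pow_eq_pow_iff_modEq (x := a)).2 h1
    simpa using this
  have hb : b ^ k = b := by
    have h1 : k ≡ 1 [MOD orderOf b] := hk1.of_dvd (orderOf_dvd_natCard b)
    have := (pow_eq_pow_iff_modEq (x := b)).2 h1
    simpa using this
  ext
  · simpa using ha
  · simpa using hb

/-- a nonzero linear map between nontrivial vector spaces -/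
theorem PEa_exists_linearMap_ne_zero (K : Type) {M : Type u} {N : Type v} [Field K]
    [AddCommGroup M] [AddCommGroup N] [Module K M] [Module K N] [Nontrivial M] [Nontrivial N] :
    ∃ f : M →ₗ[K] N, ∃ v : M, f v ≠ 0 := by
  obtain ⟨v, hv⟩ := exists_ne (0 : M)
  obtain ⟨w, hw⟩ := exists_ne (0 : N)
  obtain ⟨φ, hφ⟩ : ∃ φ : M →ₗ[K] K, φ v ≠ 0 := by
    by_contra hcon
    push Not at hcon
    exact hv ((Module.forall_dual_apply_eq_zero_iff K v).1 hcon)
  refine ⟨(LinearMap.toSpanSingleton K N w).comp φ, v, ?_⟩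
  intro h1
  have h2 : φ v • w = 0 := by simpa using h1
  rcases smul_eq_zero.1 h2 with h | h
  · exact hφ h
  · exact hw h

/-- a nonzero additive homomorphism between nontrivial abelian groups killed by a prime `ℓ` -/
theorem PEa_exists_hom_ne_zero {M : Type u} {N : Type v} [AddCommGroup M] [AddCommGroup N]
    [Nontrivial M] [Nontrivial N] {ℓ : ℕ} (hℓ : ℓ.Prime) (hM : ∀ m : M, ℓ • m = 0)
    (hN : ∀ n : N, ℓ • n = 0) : ∃ f : M →+ N, f ≠ 0 := by
  have := Fact.mk hℓ
  obtain ⟨f, v, hfv⟩ := @PEa_exists_linearMap_ne_zero (ZMod ℓ) M N _ _ _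
    (AddCommGroup.zmodModule hM) (AddCommGroup.zmodModule hN) _ _
  refine ⟨f.toAddMonoidHom, ?_⟩
  intro h0
  apply hfv
  have := congrArg (fun g : M →+ N => g v) h0
  simpa using this

end Cfsg.Agent.S4292L
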